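import Mathlib

/-! The long exact sequence of maps out of a distinguished triangle whose middle term is a sum. -/

set_option autoImplicit false
set_option backward.isDefEq.respectTransparency false

namespace Groth.Agent.DerMVLib

open CategoryTheory Pretriangulated Limits

variable {D : Type*} [Category D] [Preadditive D] [HasZeroObject D] [HasShift D ℤ]
  [∀ n : ℤ, (shiftFunctor D n).Additive] [Pretriangulated D]

set_option maxHeartbeats 1000000 in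
/-- Mayer–Vietoris for `Hom(-, K⟦n⟧)` of a distinguished triangle with middle term a sum. -/
theorem exists_delta (T : Triangle D) (hT : T ∈ distTriang D) {B2 B3 : D}
    (p12 : T.obj₁ ⟶ B2) (p13 : T.obj₁ ⟶ B3) (p24 : B2 ⟶ T.obj₃) (p34 : B3 ⟶ T.obj₃)
    (inl : B2 ⟶ T.obj₂) (inr : B3 ⟶ T.obj₂) (fs : T.obj₂ ⟶ B2) (sn : T.obj₂ ⟶ B3)
    (hinl1 : inl ≫ fs = 𝟙 B2) (hinl2 : inl ≫ sn = 0)
    (hinr1 : inr ≫ fs = 0) (hinr2 : inr ≫ sn = 𝟙 B3)
    (htot : fs ≫ inl + sn ≫ inr = 𝟙 T.obj₂)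
    (hf1 : T.mor₁ ≫ fs = p12) (hf2 : T.mor₁ ≫ sn = -p13)
    (hg1 : inl ≫ T.mor₂ = p24) (hg2 : inr ≫ T.mor₂ = p34)
    (K : D) :
    ∃ δ : ∀ n : ℤ, (T.obj₁ ⟶ K⟦n⟧) →+ (T.obj₃ ⟶ K⟦n + 1⟧),
      ∀ n : ℤ,
        (ComposableArrows.mk₂
          (AddCommGrpCat.ofHom
            ((Preadditive.leftComp (K⟦n⟧) p24).prod (Preadditive.leftComp (K⟦n⟧) p34)))
          (AddCommGrpCat.ofHom
            ((Preadditive.leftComp (K⟦n⟧) p12).coprod (-(Preadditive.leftComp (K⟦n⟧) p13))))).Exact ∧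
        (ComposableArrows.mk₂
          (AddCommGrpCat.ofHom
            ((Preadditive.leftComp (K⟦n⟧) p12).coprod (-(Preadditive.leftComp (K⟦n⟧) p13))))
          (AddCommGrpCat.ofHom (δ n))).Exact ∧
        (ComposableArrows.mk₂ (AddCommGrpCat.ofHom (δ n))
          (AddCommGrpCat.ofHom
            ((Preadditive.leftComp (K⟦n + 1⟧) p24).prod
              (Preadditive.leftComp (K⟦n + 1⟧) p34)))).Exact := by
  have hm1 : T.mor₁ = p12 ≫ inl - p13 ≫ inr := by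
    calc T.mor₁ = T.mor₁ ≫ (fs ≫ inl + sn ≫ inr) := by rw [htot, Category.comp_id]
      _ = _ := by
        rw [Preadditive.comp_add, ← Category.assoc, ← Category.assoc, hf1, hf2,
          Preadditive.neg_comp, sub_eq_add_neg]
  have hm2 : T.mor₂ = fs ≫ p24 + sn ≫ p34 := by
    calc T.mor₂ = (fs ≫ inl + sn ≫ inr) ≫ T.mor₂ := by rw [htot, Category.id_comp]
      _ = _ := by rw [Preadditive.add_comp, Category.assoc, Category.assoc, hg1, hg2]
  refine ⟨fun n => AddMonoidHom.mk'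
    (fun x => T.mor₃ ≫ x⟦(1 : ℤ)⟧' ≫ (shiftFunctorAdd' D n (1 : ℤ) (n + 1) rfl).inv.app K)
    (fun a b => by
      simp only [Functor.map_add, Preadditive.add_comp, Preadditive.comp_add]), fun n => ⟨?_, ?_, ?_⟩⟩
  · refine ComposableArrows.exact₂_mk _ ?_ ?_
    · refine AddCommGrpCat.ext fun (c : T.obj₃ ⟶ K⟦n⟧) => ?_
      change p12 ≫ p24 ≫ c + -(p13 ≫ p34 ≫ c) = 0
      have hz : T.mor₁ ≫ T.mor₂ = 0 := comp_distTriang_mor_zero₁₂ _ hT
      rw [hm1, Preadditive.sub_comp, Category.assoc, Category.assoc, hg1, hg2] at hz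
      rw [← sub_eq_add_neg, ← Category.assoc, ← Category.assoc, ← Preadditive.sub_comp, hz, zero_comp]
    · rw [ShortComplex.ab_exact_iff]
      rintro ⟨(a : B2 ⟶ K⟦n⟧), (b : B3 ⟶ K⟦n⟧)⟩ hab
      replace hab : p12 ≫ a + -(p13 ≫ b) = 0 := hab
      obtain ⟨c, hc⟩ := Triangle.yoneda_exact₂ T hT (fs ≫ a + sn ≫ b) (by
        rw [Preadditive.comp_add, ← Category.assoc, ← Category.assoc, hf1, hf2, Preadditive.neg_comp]
        exact hab)
      refine ⟨c, Prod.ext ?_ ?_⟩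
      · change p24 ≫ c = a
        rw [← hg1, Category.assoc, ← hc, Preadditive.comp_add, ← Category.assoc, ← Category.assoc,
          hinl1, hinl2, Category.id_comp, zero_comp, add_zero]
      · change p34 ≫ c = b
        rw [← hg2, Category.assoc, ← hc, Preadditive.comp_add, ← Category.assoc, ← Category.assoc,
          hinr1, hinr2, Category.id_comp, zero_comp, zero_add]
  · refine ComposableArrows.exact₂_mk _ ?_ ?_
    · refine AddCommGrpCat.ext fun (ab : (B2 ⟶ K⟦n⟧) × (B3 ⟶ K⟦n⟧)) => ?_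
      change T.mor₃ ≫ (p12 ≫ ab.1 + -(p13 ≫ ab.2))⟦(1 : ℤ)⟧' ≫
        (shiftFunctorAdd' D n (1 : ℤ) (n + 1) rfl).inv.app K = 0
      have hx : p12 ≫ ab.1 + -(p13 ≫ ab.2) = T.mor₁ ≫ (fs ≫ ab.1 + sn ≫ ab.2) := by
        rw [Preadditive.comp_add, ← Category.assoc T.mor₁, ← Category.assoc T.mor₁, hf1, hf2,
          Preadditive.neg_comp]
      have hz : T.mor₃ ≫ T.mor₁⟦(1 : ℤ)⟧' = 0 := comp_distTriang_mor_zero₃₁ _ hT
      rw [hx, Functor.map_comp, Category.assoc, ← Category.assoc T.mor₃, hz, zero_comp]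
    · rw [ShortComplex.ab_exact_iff]
      intro (x : T.obj₁ ⟶ K⟦n⟧) hx
      replace hx : T.mor₃ ≫ x⟦(1 : ℤ)⟧' ≫
        (shiftFunctorAdd' D n (1 : ℤ) (n + 1) rfl).inv.app K = 0 := hx
      have hx' : T.mor₃ ≫ x⟦(1 : ℤ)⟧' = 0 := by
        rw [← cancel_mono ((shiftFunctorAdd' D n (1 : ℤ) (n + 1) rfl).inv.app K), Category.assoc, hx,
          zero_comp]
      obtain ⟨ψ, hψ⟩ := Triangle.yoneda_exact₃ T.rotate (rot_of_distTriang _ hT) (x⟦(1 : ℤ)⟧') hx'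
      obtain ⟨χ, rfl⟩ : ∃ χ : T.obj₂ ⟶ K⟦n⟧, χ⟦(1 : ℤ)⟧' = ψ :=
        (shiftFunctor D (1 : ℤ)).map_surjective ψ
      have hxf : x = T.mor₁ ≫ (-χ) := by
        apply (shiftFunctor D (1 : ℤ)).map_injective
        rw [hψ, Triangle.rotate_mor₃, Preadditive.neg_comp, ← Functor.map_comp, ← Functor.map_neg,
          ← Preadditive.comp_neg]
      refine ⟨(inl ≫ (-χ), inr ≫ (-χ)), ?_⟩
      change p12 ≫ inl ≫ (-χ) + -(p13 ≫ inr ≫ (-χ)) = x
      rw [hxf, hm1, Preadditive.sub_comp, Category.assoc, Category.assoc, sub_eq_add_neg]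
  · refine ComposableArrows.exact₂_mk _ ?_ ?_
    · refine AddCommGrpCat.ext fun (x : T.obj₁ ⟶ K⟦n⟧) => ?_
      have hz : T.mor₂ ≫ T.mor₃ = 0 := comp_distTriang_mor_zero₂₃ _ hT
      refine Prod.ext ?_ ?_
      · change p24 ≫ T.mor₃ ≫ x⟦(1 : ℤ)⟧' ≫ _ = 0
        rw [← hg1, Category.assoc, ← Category.assoc T.mor₂, hz, zero_comp, comp_zero]
      · change p34 ≫ T.mor₃ ≫ x⟦(1 : ℤ)⟧' ≫ _ = 0
        rw [← hg2, Category.assoc, ← Category.assoc T.mor₂, hz, zero_comp, comp_zero]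
    · rw [ShortComplex.ab_exact_iff]
      intro (c : T.obj₃ ⟶ K⟦n + 1⟧) hc
      have h1 : p24 ≫ c = 0 := congrArg Prod.fst hc
      have h2 : p34 ≫ c = 0 := congrArg Prod.snd hc
      have h0 : T.mor₂ ≫ c = 0 := by
        calc T.mor₂ ≫ c = fs ≫ (p24 ≫ c) + sn ≫ (p34 ≫ c) := by
              rw [hm2, Preadditive.add_comp, Category.assoc, Category.assoc]
          _ = 0 := by rw [h1, h2]; simp
      clear hc
      have key : ∃ g, (c : T.obj₃ ⟶ K⟦n + 1⟧) = T.mor₃ ≫ g := T.yoneda_exact₃ hT _ h0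
      obtain ⟨ψ, hψ⟩ := key
      let e : K⟦n + 1⟧ ⟶ (K⟦n⟧)⟦(1 : ℤ)⟧ :=
        (shiftFunctorAdd' D n (1 : ℤ) (n + 1) rfl).hom.app K
      let ψ' : T.obj₁⟦(1 : ℤ)⟧ ⟶ (K⟦n⟧)⟦(1 : ℤ)⟧ := ψ ≫ e
      obtain ⟨x, hx⟩ := (shiftFunctor D (1 : ℤ)).map_surjective ψ'
      refine ⟨x, ?_⟩
      change T.mor₃ ≫ x⟦(1 : ℤ)⟧' ≫ _ = c
      rw [hx, Category.assoc, Iso.hom_inv_id_app]
      erw [Category.comp_id]
      exact hψ.symm

end Groth.Agent.DerMVLib
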