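import Groth.Agent.DerMVLib.HomMV

/-! Mayer–Vietoris for `Hom(-, K⟦n⟧)` of a short exact sequence with middle term a sum. -/

set_option autoImplicit false
set_option backward.isDefEq.respectTransparency false

namespace Groth.Agent.DerMVLib

open CategoryTheory Limits

universe w v u

variable {A : Type u} [Category.{v} A] [Abelian A] [HasDerivedCategory.{w} A]

/-- Mayer–Vietoris for maps into `K⟦n⟧` of a short exact sequence `B1 → B2 ⊕ B3 → B4`. -/
theorem exists_delta_single {B1 B2 B3 B4 : A} (a12 : B1 ⟶ B2) (a13 : B1 ⟶ B3) (a24 : B2 ⟶ B4)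
    (a34 : B3 ⟶ B4) (w : biprod.lift a12 (-a13) ≫ biprod.desc a24 a34 = 0)
    (hS : (ShortComplex.mk _ _ w).ShortExact) (K : DerivedCategory A) :
    ∃ δ : ∀ n : ℤ, ((DerivedCategory.singleFunctor A 0).obj B1 ⟶ K⟦n⟧) →+
        ((DerivedCategory.singleFunctor A 0).obj B4 ⟶ K⟦n + 1⟧),
      ∀ n : ℤ,
        (ComposableArrows.mk₂
          (AddCommGrpCat.ofHom
            ((Preadditive.leftComp (K⟦n⟧) ((DerivedCategory.singleFunctor A 0).map a24)).prod
              (Preadditive.leftComp (K⟦n⟧) ((DerivedCategory.singleFunctor A 0).map a34))))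
          (AddCommGrpCat.ofHom
            ((Preadditive.leftComp (K⟦n⟧) ((DerivedCategory.singleFunctor A 0).map a12)).coprod
              (-(Preadditive.leftComp (K⟦n⟧) ((DerivedCategory.singleFunctor A 0).map a13)))))).Exact ∧
        (ComposableArrows.mk₂
          (AddCommGrpCat.ofHom
            ((Preadditive.leftComp (K⟦n⟧) ((DerivedCategory.singleFunctor A 0).map a12)).coprod
              (-(Preadditive.leftComp (K⟦n⟧) ((DerivedCategory.singleFunctor A 0).map a13)))))
          (AddCommGrpCat.ofHom (δ n))).Exact ∧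
        (ComposableArrows.mk₂ (AddCommGrpCat.ofHom (δ n))
          (AddCommGrpCat.ofHom
            ((Preadditive.leftComp (K⟦n + 1⟧) ((DerivedCategory.singleFunctor A 0).map a24)).prod
              (Preadditive.leftComp (K⟦n + 1⟧)
                ((DerivedCategory.singleFunctor A 0).map a34))))).Exact := by
  let F := DerivedCategory.singleFunctor A 0
  let i : B2 ⟶ B2 ⊞ B3 := biprod.inl
  let j : B3 ⟶ B2 ⊞ B3 := biprod.inr
  let p : B2 ⊞ B3 ⟶ B2 := biprod.fst
  let q : B2 ⊞ B3 ⟶ B3 := biprod.snd
  exact exists_delta hS.singleTriangle hS.singleTriangle_distinguished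
    (F.map a12) (F.map a13) (F.map a24) (F.map a34)
    (F.map i) (F.map j) (F.map p) (F.map q)
    (by rw [← Functor.map_comp, biprod.inl_fst]; exact CategoryTheory.Functor.map_id F _)
    (by rw [← Functor.map_comp, biprod.inl_snd]; exact Functor.map_zero F _ _)
    (by rw [← Functor.map_comp, biprod.inr_fst]; exact Functor.map_zero F _ _)
    (by rw [← Functor.map_comp, biprod.inr_snd]; exact CategoryTheory.Functor.map_id F _)
    (by
      refine ((congrArg₂ (· + ·) (F.map_comp p i) (F.map_comp q j)).symm.trans
        (F.map_add (f := p ≫ i) (g := q ≫ j)).symm).trans ?_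
      rw [biprod.total]
      exact CategoryTheory.Functor.map_id F _)
    ((F.map_comp _ p).symm.trans (congrArg F.map (biprod.lift_fst _ _)))
    (((F.map_comp _ q).symm.trans (congrArg F.map (biprod.lift_snd _ _))).trans
      (Functor.map_neg F))
    ((F.map_comp i _).symm.trans (congrArg F.map (biprod.inl_desc _ _)))
    ((F.map_comp j _).symm.trans (congrArg F.map (biprod.inr_desc _ _)))
    K

end Groth.Agent.DerMVLib
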